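import Groth.Agent.CechLib.Basic
import Groth.Agent.QCohLib.QcqsSections
import Mathlib

/-! Čech acyclicity for opens cut out by functions generating the unit ideal of their union. -/

set_option autoImplicit false
set_option maxHeartbeats 1000000
universe u
open CategoryTheory CategoryTheory.Limits TopologicalSpace Opposite AlgebraicGeometry

noncomputable section

namespace CechUnitLib

variable {X : Scheme.{u}} (G : X.Modules) {ι : Type u} (U : ι → X.Opens) {W : X.Opens} (hW : ∀ i, U i ≤ W)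

local notation "P" => Scheme.Modules.presheaf G

theorem cap_le' {n : ℕ} (J : Fin (n + 1) → ι) (hW : ∀ i, U i ≤ W) : CechLib.cap U J ≤ W :=
  (CechLib.cap_le U J 0).trans (hW _)

/-- multiplication of cochains by a function on `W` -/
def act (a : Γ(X, W)) (n : ℕ) : CechLib.Cochain U P n →+ CechLib.Cochain U P n where
  toFun c J := (X.presheaf.map (homOfLE (cap_le' U J hW)).op a • (show Γ(G, CechLib.cap U J) from c J))
  map_zero' := funext fun J => smul_zero (M := Γ(X, CechLib.cap U J)) (A := Γ(G, CechLib.cap U J)) _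
  map_add' c c' := funext fun J => smul_add (M := Γ(X, CechLib.cap U J)) (A := Γ(G, CechLib.cap U J)) _ _ _

theorem act_apply (a : Γ(X, W)) (n : ℕ) (c : CechLib.Cochain U P n) (J : Fin (n + 1) → ι) :
    act G U hW a n c J =
      (X.presheaf.map (homOfLE (cap_le' U J hW)).op a • (show Γ(G, CechLib.cap U J) from c J) :
        Γ(G, CechLib.cap U J)) := rfl

theorem rs_smul {V T : X.Opens} (hT : T ≤ V) (hV : V ≤ W) (a : Γ(X, W)) (t : Γ(G, V)) :
    CechLib.rs P hT (X.presheaf.map (homOfLE hV).op a • t : Γ(G, V)) =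
      (X.presheaf.map (homOfLE (hT.trans hV)).op a • (show Γ(G, T) from CechLib.rs P hT t) : Γ(G, T)) := by
  refine (Scheme.Modules.map_smul G (homOfLE hT) _ t).trans ?_
  rw [QCohLib.ringMap_map', homOfLE_comp]
  rfl

theorem dd_act (a : Γ(X, W)) (n : ℕ) (c : CechLib.Cochain U P n) :
    CechLib.dd U P n (act G U hW a n c) = act G U hW a (n + 1) (CechLib.dd U P n c) := by
  funext J
  rw [act_apply, CechLib.dd_apply, CechLib.dd_apply]
  refine Eq.trans ?_ (Finset.smul_sum (r := X.presheaf.map (homOfLE (cap_le' U J hW)).op a)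
    (f := fun k : Fin (n + 2) => (show Γ(G, CechLib.cap U J) from ((-1 : ℤ) ^ (k : ℕ)) •
      CechLib.rs P (CechLib.cap_comp_le U J k.succAbove) (c (J ∘ k.succAbove))))).symm
  refine Finset.sum_congr rfl fun k _ => ?_
  refine (congrArg (((-1 : ℤ) ^ (k : ℕ)) • ·)
    (rs_smul G (CechLib.cap_comp_le U J k.succAbove) (cap_le' U _ hW) a (c (J ∘ k.succAbove)))).trans ?_
  exact smul_comm _ _ _

theorem act_one (n : ℕ) (c : CechLib.Cochain U P n) : act G U hW 1 n c = c := funext fun J => by
  rw [act_apply, map_one]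
  exact one_smul _ _

theorem act_mul (a b : Γ(X, W)) (n : ℕ) (c : CechLib.Cochain U P n) :
    act G U hW (a * b) n c = act G U hW a n (act G U hW b n c) := funext fun J => by
  rw [act_apply, act_apply, act_apply, map_mul]
  exact mul_smul _ _ _

theorem act_sum {κ : Type*} (s : Finset κ) (a : κ → Γ(X, W)) (n : ℕ) (c : CechLib.Cochain U P n) :
    act G U hW (∑ i ∈ s, a i) n c = ∑ i ∈ s, act G U hW (a i) n c := funext fun J => by
  rw [act_apply, Finset.sum_apply, map_sum]
  exact Finset.sum_smul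

theorem cap_cons {n : ℕ} (i : ι) (J : Fin n → ι) :
    CechLib.cap U (Fin.cons i J : Fin (n + 1) → ι) = U i ⊓ CechLib.cap U J :=
  le_antisymm (le_inf (CechLib.cap_le U (Fin.cons i J : Fin (n + 1) → ι) 0)
      ((CechLib.le_cap_iff U).2 fun a => by
        simpa using CechLib.cap_le U (Fin.cons i J : Fin (n + 1) → ι) a.succ))
    ((CechLib.le_cap_iff U).2 fun a => by
      cases a using Fin.cases with
      | zero => simp
      | succ a => simpa using inf_le_right.trans (CechLib.cap_le U J a))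

theorem cons_comp {n : ℕ} (i : ι) (J : Fin (n + 2) → ι) (k : Fin (n + 2)) :
    (Fin.cons i J : Fin (n + 3) → ι) ∘ k.succ.succAbove = (Fin.cons i (J ∘ k.succAbove) : Fin (n + 2) → ι) := by
  funext l
  cases l using Fin.cases with
  | zero => simp
  | succ l => simp [Fin.succ_succAbove_succ]

/-- a component does not depend on how the tuple is written -/
theorem rs_congr {n : ℕ} (c : CechLib.Cochain U P n) {J J' : Fin (n + 1) → ι} (e : J = J') {T : X.Opens}
    (h : T ≤ CechLib.cap U J) (h' : T ≤ CechLib.cap U J') :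
    CechLib.rs P h (c J) = CechLib.rs P h' (c J') := by subst e; rfl

variable [X.IsSeparated] [Finite ι]

theorem isCompact_cap (hqc : ∀ i, IsCompact (U i : Set X)) :
    ∀ {n : ℕ} (J : Fin (n + 1) → ι), IsCompact (CechLib.cap U J : Set X)
  | 0, J => by
    rw [show CechLib.cap U J = U (J 0) from le_antisymm (CechLib.cap_le U J 0)
      ((CechLib.le_cap_iff U).2 fun a => by rw [show a = 0 from Fin.ext (by omega)])]
    exact hqc _
  | n + 1, J => by
    rw [← Fin.cons_self_tail J, cap_cons, Opens.coe_inf]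
    exact QuasiSeparatedSpace.inter_isCompact _ _ (U _).isOpen (hqc _) (CechLib.cap U _).isOpen
      (isCompact_cap hqc _)

theorem pow_kills [Coh.IsQCoh G] (hqc : ∀ i, IsCompact (U i : Set X)) (a : ι → Γ(X, W))
    (ha : ∀ i, X.basicOpen (a i) = U i) {n : ℕ} (c : CechLib.Cochain U P (n + 1))
    (hc : CechLib.dd U P (n + 1) c = 0) (i : ι) :
    ∃ (K : ℕ) (b : CechLib.Cochain U P n), CechLib.dd U P n b = act G U hW (a i ^ K) (n + 1) c := by
  classical
  cases nonempty_fintype ι
  have hqs : IsQuasiSeparated (W : Set X) := IsQuasiSeparated.of_quasiSeparatedSpace _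
  have hext : ∀ J : Fin (n + 1) → ι, ∃ (N : ℕ) (t : Γ(G, CechLib.cap U J)),
      CechLib.rs P (inf_le_left : CechLib.cap U J ⊓ X.basicOpen (a i) ≤ CechLib.cap U J) t =
        (X.presheaf.map (homOfLE ((inf_le_left : CechLib.cap U J ⊓ X.basicOpen (a i) ≤ _).trans
          (cap_le' U J hW))).op (a i) ^ N •
          (show Γ(G, CechLib.cap U J ⊓ X.basicOpen (a i)) from CechLib.rs P
            (show CechLib.cap U J ⊓ X.basicOpen (a i) ≤ CechLib.cap U (Fin.cons i J : Fin (n + 2) → ι) by
              rw [cap_cons, ha, inf_comm]) (c (Fin.cons i J))) :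
          Γ(G, CechLib.cap U J ⊓ X.basicOpen (a i))) := fun J =>
    QCohLib.exists_pow_smul_extend hqs (a i) _ (isCompact_cap U hqc J) (cap_le' U J hW) _
  choose N t ht using hext
  let N₀ := Finset.univ.sup N
  let h : CechLib.Cochain U P n := fun J =>
    (X.presheaf.map (homOfLE (cap_le' U J hW)).op (a i ^ (N₀ - N J)) • t J : Γ(G, CechLib.cap U J))
  let z := act G U hW (a i ^ N₀) (n + 1) c - CechLib.dd U P n h
  have hz : ∀ J : Fin (n + 2) → ι,
      CechLib.rs P (inf_le_left : CechLib.cap U J ⊓ X.basicOpen (a i) ≤ CechLib.cap U J) (z J) = 0 := by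
    intro J
    set T := CechLib.cap U J ⊓ X.basicOpen (a i) with hTdef
    have hTJ : T ≤ CechLib.cap U J := inf_le_left
    have hTc : T ≤ CechLib.cap U (Fin.cons i J : Fin (n + 3) → ι) := by rw [cap_cons, hTdef, ha, inf_comm]
    have hTW : T ≤ W := hTJ.trans (cap_le' U J hW)
    let cc : Fin (n + 2) → Γ(G, T) := fun k => CechLib.rs P
      (show T ≤ CechLib.cap U (Fin.cons i (J ∘ k.succAbove) : Fin (n + 2) → ι) from
        cons_comp i J k ▸ hTc.trans (CechLib.cap_comp_le U _ k.succ.succAbove)) (c (Fin.cons i (J ∘ k.succAbove)))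
    have hk : ∀ k : Fin (n + 2), (show Γ(G, T) from CechLib.rs P (hTJ.trans (CechLib.cap_comp_le U J k.succAbove))
        (h (J ∘ k.succAbove))) = X.presheaf.map (homOfLE hTW).op (a i ^ N₀) • cc k := by
      intro k
      set J' := J ∘ k.succAbove
      have hT' : T ≤ CechLib.cap U J' ⊓ X.basicOpen (a i) :=
        inf_le_inf_right _ (CechLib.cap_comp_le U J k.succAbove)
      have e1 := congrArg (CechLib.rs P hT') (ht J')
      rw [CechLib.rs_rs, ← map_pow, rs_smul G hT' (inf_le_left.trans (cap_le' U J' hW)) (a i ^ N J') _,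
        CechLib.rs_rs] at e1
      refine (rs_smul G (hT'.trans inf_le_left) (cap_le' U J' hW) (a i ^ (N₀ - N J')) (t J')).trans ?_
      refine (congrArg (fun x : Γ(G, T) => X.presheaf.map (homOfLE hTW).op (a i ^ (N₀ - N J')) • x) e1).trans ?_
      rw [smul_smul, ← map_mul, ← pow_add, Nat.sub_add_cancel (Finset.le_sup (Finset.mem_univ J'))]
    have hsum : (show Γ(G, T) from CechLib.rs P hTJ (c J)) = ∑ k : Fin (n + 2), ((-1 : ℤ) ^ (k : ℕ)) • cc k := by
      have h0 := congrArg (CechLib.rs P hTc) (congr_fun hc (Fin.cons i J : Fin (n + 3) → ι))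
      rw [CechLib.dd_apply, map_sum, Pi.zero_apply, map_zero] at h0
      simp only [map_zsmul, CechLib.rs_rs] at h0
      rw [Fin.sum_univ_succ] at h0
      have e0 : (Fin.cons i J : Fin (n + 3) → ι) ∘ (0 : Fin (n + 3)).succAbove = J := by
        funext l; simp
      rw [rs_congr G U c e0 _ hTJ, Fin.val_zero, pow_zero, one_smul] at h0
      refine (eq_neg_of_add_eq_zero_left h0).trans ?_
      rw [← Finset.sum_neg_distrib]
      refine Finset.sum_congr rfl fun k _ => ?_
      rw [rs_congr G U c (cons_comp i J k) _ (cons_comp i J k ▸ hTc.trans (CechLib.cap_comp_le U _ k.succ.succAbove)),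
        Fin.val_succ, pow_succ, mul_neg_one, neg_smul, neg_neg]
    show CechLib.rs P hTJ (act G U hW (a i ^ N₀) (n + 1) c J - CechLib.dd U P n h J) = 0
    rw [map_sub, sub_eq_zero, CechLib.dd_apply, map_sum, act_apply]
    refine (rs_smul G hTJ (cap_le' U J hW) _ _).trans ?_
    refine (congrArg (fun x : Γ(G, T) => X.presheaf.map (homOfLE hTW).op (a i ^ N₀) • x) hsum).trans ?_
    rw [Finset.smul_sum]
    refine Finset.sum_congr rfl fun k _ => ?_
    rw [map_zsmul, CechLib.rs_rs]
    exact (smul_comm _ _ _).trans (congrArg (((-1 : ℤ) ^ (k : ℕ)) • ·) (hk k).symm)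
  have hkill : ∀ J : Fin (n + 2) → ι, ∃ M : ℕ,
      X.presheaf.map (homOfLE (cap_le' U J hW)).op (a i) ^ M • (show Γ(G, CechLib.cap U J) from z J) = 0 :=
    fun J => QCohLib.exists_pow_smul_eq_zero (a i) _ (isCompact_cap U hqc J) (cap_le' U J hW) _ (hz J)
  choose M hM using hkill
  let M₀ := Finset.univ.sup M
  refine ⟨M₀ + N₀, act G U hW (a i ^ M₀) n h, ?_⟩
  rw [dd_act, pow_add, act_mul]
  refine (sub_eq_zero.1 ?_).symm
  rw [← map_sub]
  funext J
  have e : M₀ = M₀ - M J + M J := (Nat.sub_add_cancel (Finset.le_sup (f := M) (Finset.mem_univ J))).symm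
  rw [act_apply, map_pow, e, pow_add, mul_smul]
  exact (congrArg (fun x : Γ(G, CechLib.cap U J) =>
    X.presheaf.map (homOfLE (cap_le' U J hW)).op (a i) ^ (M₀ - M J) • x) (hM J)).trans (smul_zero _)

/-- Cocycles are coboundaries. -/
theorem exists_boundary [Coh.IsQCoh G] (hqc : ∀ i, IsCompact (U i : Set X)) (a : ι → Γ(X, W))
    (ha : ∀ i, X.basicOpen (a i) = U i) (hspan : Ideal.span (Set.range a) = ⊤) (hW : ∀ i, U i ≤ W) {n : ℕ}
    (c : CechLib.Cochain U P (n + 1)) (hc : CechLib.dd U P (n + 1) c = 0) :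
    ∃ b, CechLib.dd U P n b = c := by
  classical
  cases nonempty_fintype ι
  choose K b hb using pow_kills G U hW hqc a ha c hc
  let K₀ := Finset.univ.sup K
  have h := Ideal.span_pow_eq_top _ hspan K₀
  rw [← Set.range_comp] at h
  obtain ⟨w, hw⟩ := Ideal.mem_span_range_iff_exists_fun.1 (h ▸ Submodule.mem_top (x := (1 : Γ(X, W))))
  refine ⟨∑ i, act G U hW (w i * a i ^ (K₀ - K i)) n (b i), ?_⟩
  rw [map_sum]
  calc ∑ i, CechLib.dd U P n (act G U hW (w i * a i ^ (K₀ - K i)) n (b i))
      = ∑ i, act G U hW (w i * a i ^ K₀) (n + 1) c := Finset.sum_congr rfl fun i _ => by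
        rw [dd_act, hb, ← act_mul, mul_assoc, ← pow_add, Nat.sub_add_cancel (Finset.le_sup (Finset.mem_univ i))]
    _ = act G U hW (∑ i, w i * a i ^ K₀) (n + 1) c := (act_sum G U hW Finset.univ _ (n + 1) c).symm
    _ = c := by
      rw [show (∑ i, w i * a i ^ K₀) = (1 : Γ(X, W)) from hw]
      exact act_one G U hW (n + 1) c

end CechUnitLib
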